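import Groth.Agent.FlatMor68.CMComp
import Groth.Agent.FlatMor68.KoszulCalc
import Groth.Agent.LimTop61.GorPt
import Groth.Agent.SpFP87.LocPRep
import Groth.Prelude.Def_AlgSpMor6

/-!
Properties read on etale charts of a scheme over a field.
-/

set_option autoImplicit false
set_option backward.isDefEq.respectTransparency false
universe u

open CategoryTheory CategoryTheory.Limits AlgebraicGeometry IsLocalRing
open AlgSp

namespace Groth.Agent.CurvLoci1

theorem etale_of_chart {S : Scheme.{u}} {U W : Over S} (m : U ⟶ W)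
    (h : RepWith @Etale ((yon S).map m)) : Etale m.left :=
  (repWith_yon_map_iff (@Etale : MorphismProperty Scheme.{u}) m).1 h

theorem repWith_etale_id {S : Scheme.{u}} (W : Over S) : RepWith @Etale (𝟙 ((yon S).obj W)) :=
  repWith_id (@Etale : MorphismProperty Scheme.{u}) W

/-- Chart diagrams over a morphism of representable sheaves. -/
theorem exists_of_chart {S : Scheme.{u}} {U V A B : Over S} (g : A ⟶ B) (a : (yon S).obj U ⟶ (yon S).obj A)
    (b : (yon S).obj V ⟶ (yon S).obj B) (h : U ⟶ V) (ha : RepWith @Etale a) (hb : RepWith @Etale b)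
    (w : a ≫ (yon S).map g = (yon S).map h ≫ b) :
    ∃ (a₀ : U ⟶ A) (b₀ : V ⟶ B), Etale a₀.left ∧ Etale b₀.left ∧ a₀.left ≫ g.left = h.left ≫ b₀.left := by
  obtain ⟨a₀, rfl⟩ := (yon S).map_surjective a
  obtain ⟨b₀, rfl⟩ := (yon S).map_surjective b
  refine ⟨a₀, b₀, etale_of_chart a₀ ha, etale_of_chart b₀ hb, ?_⟩
  rw [← Functor.map_comp, ← Functor.map_comp] at w
  exact congrArg (fun m => m.left) ((yon S).map_injective w)

theorem locP_chart_id {S : Scheme.{u}} {P : MorphismProperty Scheme.{u}} {A B : Over S} (g : A ⟶ B)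
    (h : LocP P ((yon S).map g)) : P g.left :=
  h (𝟙 _) (𝟙 _) g (repWith_etale_id A) (repWith_etale_id B) (by rw [Category.id_comp, Category.comp_id])

variable {k : Type u} [Field k]

/-- The stalks of a scheme etale over a field are fields. -/
theorem maximalIdeal_eq_bot {V : Scheme.{u}} (r : V ⟶ Spec (CommRingCat.of k)) [Etale r] (v : V) :
    maximalIdeal (V.presheaf.stalk v) = ⊥ := by
  rw [← FlatMor66.map_maximalIdeal_stalkMap r v, FlatMor68.FibreStalk.spec_field_stalk_maximalIdeal, Ideal.map_bot]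

variable {U V : Scheme.{u}} (h : U ⟶ V) (u : U)

theorem flat_stalkMap_of_field (hv : maximalIdeal (V.presheaf.stalk (h u)) = ⊥) : (h.stalkMap u).hom.Flat := by
  letI := (IsLocalRing.isField_iff_maximalIdeal_eq.2 hv).toField
  letI := (h.stalkMap u).hom.toAlgebra
  show Module.Flat _ _
  infer_instance

/-- Over a field the fibre stalk is the stalk. -/
noncomputable def fibreStalkEquivField (hv : maximalIdeal (V.presheaf.stalk (h u)) = ⊥) :
    (h.fiber (h u)).presheaf.stalk (h.asFiber u) ≃+* U.presheaf.stalk u :=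
  (FlatMor68.FibreStalk.fibreStalkEquivAt h u).symm.trans
    ((Ideal.quotEquivOfEq (by rw [hv, Ideal.map_bot])).trans (RingEquiv.quotientBot _))

theorem cm_congr {A B : Type u} [CommRing A] [CommRing B] (e : A ≃+* B) :
    LocCoh.IsCohenMacaulayLocalRing A ↔ LocCoh.IsCohenMacaulayLocalRing B :=
  ⟨CAlg1.cm_of_ringEquiv e, CAlg1.cm_of_ringEquiv e.symm⟩

theorem cm_field (K : Type u) [CommRing K] (hK : IsField K) : LocCoh.IsCohenMacaulayLocalRing K := by
  haveI := LimTop61.gor_field K hK
  exact Gor18.gor_cm K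

theorem cm_stalk_etale_iff {X Y : Scheme.{u}} [IsLocallyNoetherian Y] (p : X ⟶ Y) [Etale p] (x : X) :
    LocCoh.IsCohenMacaulayLocalRing (X.presheaf.stalk x) ↔
      LocCoh.IsCohenMacaulayLocalRing (Y.presheaf.stalk (p x)) := by
  haveI := LocallyOfFiniteType.isLocallyNoetherian p
  letI := (p.stalkMap x).hom.toAlgebra
  haveI : Module.Flat (Y.presheaf.stalk (p x)) (X.presheaf.stalk x) := Flat.stalkMap p x
  haveI : IsLocalHom (algebraMap (Y.presheaf.stalk (p x)) (X.presheaf.stalk x)) :=
    inferInstanceAs (IsLocalHom (p.stalkMap x).hom)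
  have hF : LocCoh.IsCohenMacaulayLocalRing (EGA4.FibRing (Y.presheaf.stalk (p x)) (X.presheaf.stalk x)) := by
    refine cm_field _ ?_
    show IsField (X.presheaf.stalk x ⧸ (maximalIdeal (Y.presheaf.stalk (p x))).map (p.stalkMap x).hom)
    rw [FlatMor66.map_maximalIdeal_stalkMap p x]
    exact (Ideal.Quotient.maximal_ideal_iff_isField_quotient _).1 inferInstance
  rw [FlatMor68.CMComp.cm_iff (Y.presheaf.stalk (p x)) (X.presheaf.stalk x)]
  exact ⟨fun h => h.1, fun h => ⟨h, hF⟩⟩

variable {S : Scheme.{u}} {X : Scheme.{u}} (p : X ⟶ Spec (CommRingCat.of k)) [LocallyOfFiniteType p]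
  (t : Spec (CommRingCat.of k) ⟶ S)

/-- A condition on flatness and fibre local rings read on all charts over a field. -/
theorem locP_fibre_field_iff (R : (A : Type u) → [CommRing A] → Prop)
    (hR : ∀ {A B : Type u} [CommRing A] [CommRing B], (A ≃+* B) → (R A ↔ R B))
    (hEt : ∀ {A B : Scheme.{u}} [IsLocallyNoetherian B] (e : A ⟶ B) [Etale e] (a : A),
      R (A.presheaf.stalk a) ↔ R (B.presheaf.stalk (e a))) :
    LocP (fun _ _ g => ∀ x, (g.stalkMap x).hom.Flat ∧ R ((g.fiber (g x)).presheaf.stalk (g.asFiber x)))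
      ((yon S).map (Over.homMk p rfl : Over.mk (p ≫ t) ⟶ Over.mk t)) ↔
      ∀ x : X, R (X.presheaf.stalk x) := by
  haveI : IsLocallyNoetherian X := LocallyOfFiniteType.isLocallyNoetherian p
  constructor
  · intro H x
    have h1 := locP_chart_id _ H x
    exact (hR (fibreStalkEquivField p x (FlatMor68.FibreStalk.spec_field_stalk_maximalIdeal k _))).1 h1.2
  · intro H U V a b h ha hb w x
    obtain ⟨a₀, b₀, ha₀, hb₀, -⟩ := exists_of_chart _ a b h ha hb w
    haveI : Etale (show U.left ⟶ X from a₀.left) := ha₀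
    haveI : Etale (show V.left ⟶ Spec (CommRingCat.of k) from b₀.left) := hb₀
    have hv := maximalIdeal_eq_bot (show V.left ⟶ Spec (CommRingCat.of k) from b₀.left) (h.left x)
    exact ⟨flat_stalkMap_of_field h.left x hv, (hR (fibreStalkEquivField h.left x hv)).2
      ((hEt (show U.left ⟶ X from a₀.left) x).2 (H _))⟩

omit [LocallyOfFiniteType p] in
theorem isLCIMor_field_iff :
    IsLCIMor ((yon S).map (Over.homMk p rfl : Over.mk (p ≫ t) ⟶ Over.mk t)) ↔ ∀ x : X, Synt.IsKoszulAt p x := by
  constructor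
  · intro H
    exact locP_chart_id _ H
  · intro H U V a b h ha hb w
    obtain ⟨a₀, b₀, ha₀, hb₀, e⟩ := exists_of_chart _ a b h ha hb w
    let a' : U.left ⟶ X := a₀.left
    let b' : V.left ⟶ Spec (CommRingCat.of k) := b₀.left
    haveI : Etale a' := ha₀
    haveI : Etale b' := hb₀
    have hl : FlatMor68.KoszulCalc.lciProp (h.left ≫ b') :=
      (show a' ≫ p = h.left ≫ b' from e) ▸ FlatMor68.KoszulCalc.lciProp_comp a' p
        (FlatMor68.KoszulCalc.lciProp_smooth a') ((FlatMor68.KoszulCalc.forall_isKoszulAt_iff p).1 H)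
    exact (FlatMor68.KoszulCalc.forall_isKoszulAt_iff h.left).2
      (FlatMor68.KoszulCalc.lciProp_of_comp_smooth h.left b' hl)

end Groth.Agent.CurvLoci1
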