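import Groth.Prelude.Def_StCurv2
import Groth.Agent.Grpd80.SmoothBC
import Groth.Agent.Grpd80.DimStab
import Groth.Agent.FBase64.Geometric
import Mathlib.AlgebraicGeometry.Geometrically.Reduced
import Mathlib.AlgebraicGeometry.Geometrically.Connected
import Mathlib.AlgebraicGeometry.Morphisms.QuasiFinite

/-!
Geometric fibres of families with scheme total space; scheme-level field extension invariance.
-/

set_option autoImplicit false
set_option backward.isDefEq.respectTransparency false
set_option linter.style.haveILetI false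
universe u

open CategoryTheory CategoryTheory.Limits AlgebraicGeometry

namespace Groth.Agent.CurvLoci1

/-- Cartesian squares of sheaves over a scheme family are cartesian squares of schemes. -/
theorem geomFib_toSpFam_iff {S : Scheme.{u}} {n : ℕ} (A : CurvSt.PtFamObj S n)
    (P : ∀ (Ω : Type u) [Field Ω] [IsAlgClosed Ω] (X' : Scheme.{u}), (X' ⟶ Spec (CommRingCat.of Ω)) → Prop) :
    CurvSt.GeomFib (fun Ω _ _ X' q _ => P Ω X' q) ((CurvSt.toSpFam S n).obj A) ↔
      ∀ (Ω : Type u) [Field Ω] [IsAlgClosed Ω] (t : Spec (CommRingCat.of Ω) ⟶ A.base.left) (X' : Scheme.{u})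
        (q : X' ⟶ Spec (CommRingCat.of Ω)) (i : X' ⟶ A.C), IsPullback i q A.f t → P Ω X' q := by
  let B := (CurvSt.toSpFam S n).obj A
  constructor
  · intro H Ω _ _ t X' q i h
    let i' : B.ptOver (q ≫ t) ⟶ A.totOver := Over.homMk i (by
      show i ≫ A.f ≫ A.base.hom = (q ≫ t) ≫ A.base.hom
      rw [reassoc_of% h.w, Category.assoc])
    have hO : IsPullback i' (B.fibHom t q) (A.fOver) (B.ptHom t) :=
      IsPullback.of_map (Over.forget S) (Over.OverMorphism.ext h.w) h
    exact H Ω t X' q ((AlgSp.yon S).map i') (hO.map (AlgSp.yon S))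
  · intro H Ω _ _ t X' q i hP
    obtain ⟨i₀, rfl⟩ := (AlgSp.yon S).map_surjective i
    have hO : IsPullback i₀ (B.fibHom t q) (A.fOver) (B.ptHom t) := by
      refine IsPullback.of_map (AlgSp.yon S) ?_ hP
      apply (AlgSp.yon S).map_injective
      rw [Functor.map_comp, Functor.map_comp]
      exact hP.w
    exact H Ω t X' q i₀.left (hO.map (Over.forget S))

variable {k : Type u} [Field k] {X : Scheme.{u}} (p : X ⟶ Spec (CommRingCat.of k))

theorem flat_specMap (K L : Type u) [Field K] [Field L] (φ : CommRingCat.of K ⟶ CommRingCat.of L) :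
    Flat (Spec.map φ) := by
  rw [HasRingHomProperty.Spec_iff (P := @Flat)]
  algebraize [φ.hom]
  exact (inferInstance : Module.Flat K L)

theorem isReduced_of_flat_surjective {X Y : Scheme.{u}} (p : X ⟶ Y) [Flat p] [Surjective p] [IsReduced X] :
    IsReduced Y := by
  have : ∀ y, _root_.IsReduced (Y.presheaf.stalk y) := fun y => by
    obtain ⟨x, rfl⟩ := p.surjective y
    letI := (p.stalkMap x).hom.toAlgebra
    haveI : Module.Flat (Y.presheaf.stalk (p x)) (X.presheaf.stalk x) := Flat.stalkMap p x
    haveI : IsLocalHom (algebraMap (Y.presheaf.stalk (p x)) (X.presheaf.stalk x)) :=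
      inferInstanceAs (IsLocalHom (p.stalkMap x).hom)
    haveI := Module.FaithfullyFlat.of_flat_of_isLocalHom (A := Y.presheaf.stalk (p x)) (B := X.presheaf.stalk x)
    exact isReduced_of_injective (p.stalkMap x).hom
      (FaithfulSMul.algebraMap_injective (Y.presheaf.stalk (p x)) (X.presheaf.stalk x))
  exact isReduced_of_isReduced_stalk Y

theorem geomReduced_iff :
    (∀ (Ω : Type u) [Field Ω] [IsAlgClosed Ω] (t : Spec (CommRingCat.of Ω) ⟶ Spec (CommRingCat.of k))
      (X' : Scheme.{u}) (q : X' ⟶ Spec (CommRingCat.of Ω)) (i : X' ⟶ X), IsPullback i q p t → IsReduced X') ↔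
      GeometricallyReduced p := by
  constructor
  · intro H
    refine ⟨geometrically_iff_of_commRing.2 fun K _ _ Y fst snd hsq => ?_⟩
    let Ω := AlgebraicClosure K
    let a := Spec.map (CommRingCat.ofHom (algebraMap K Ω))
    haveI := flat_specMap K Ω (CommRingCat.ofHom (algebraMap K Ω))
    haveI : Surjective a := ⟨fun x => ⟨default, Subsingleton.elim _ _⟩⟩
    haveI := H Ω _ _ (pullback.snd snd a) _ ((IsPullback.of_hasPullback snd a).paste_horiz hsq)
    exact isReduced_of_flat_surjective (pullback.fst snd a)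
  · intro h Ω _ _ t X' q i hsq
    exact h.geometrically_isReduced t _ _ hsq

theorem geomConnected_iff :
    (∀ (Ω : Type u) [Field Ω] [IsAlgClosed Ω] (t : Spec (CommRingCat.of Ω) ⟶ Spec (CommRingCat.of k))
      (X' : Scheme.{u}) (q : X' ⟶ Spec (CommRingCat.of Ω)) (i : X' ⟶ X), IsPullback i q p t → ConnectedSpace X') ↔
      GeometricallyConnected p := by
  constructor
  · intro H
    let Ω := AlgebraicClosure k
    haveI := H Ω _ _ _ _ (IsPullback.of_hasPullback p (Spec.map (CommRingCat.ofHom (algebraMap k Ω))))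
    exact FBase64.geometricallyConnected_of_sepClosed p (algebraMap k Ω)
  · intro h Ω _ _ t X' q i hsq
    exact h.geometrically_connectedSpace t _ _ hsq

theorem dim_eq_of_isPullback [LocallyOfFiniteType p] {Ω : Type u} [Field Ω]
    (t : Spec (CommRingCat.of Ω) ⟶ Spec (CommRingCat.of k)) {X' : Scheme.{u}}
    (q : X' ⟶ Spec (CommRingCat.of Ω)) (i : X' ⟶ X) (hsq : IsPullback i q p t) :
    topologicalKrullDim X' = topologicalKrullDim X := by
  obtain ⟨φ, rfl⟩ := Spec.map_surjective t
  letI : Algebra k Ω := φ.hom.toAlgebra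
  rw [IsHomeomorph.topologicalKrullDim_eq _ hsq.isoPullback.hom.homeomorph.isHomeomorph]
  exact Grpd80.dim_bc_eq p

theorem nonsmooth_iff {Y Z : Scheme.{u}} (q : Y ⟶ Z) [LocallyOfFinitePresentation q] (y : Y) :
    (∃ U : Y.Opens, y ∈ U ∧ Smooth (U.ι ≫ q)) ↔ y ∈ q.smoothLocus := by
  constructor
  · rintro ⟨U, hy, hU⟩
    have := (U.ι ≫ q).smoothLocus_eq_top
    rw [← Scheme.Hom.preimage_smoothLocus_eq] at this
    exact (this.ge (Set.mem_univ (⟨y, hy⟩ : U)) :)
  · intro hy
    refine ⟨q.smoothLocus, hy, ?_⟩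
    rw [← Scheme.Hom.smoothLocus_eq_top_iff, ← Scheme.Hom.preimage_smoothLocus_eq]
    simp

theorem preimage_nonsmooth [LocallyOfFiniteType p] {Ω : Type u} [Field Ω]
    (t : Spec (CommRingCat.of Ω) ⟶ Spec (CommRingCat.of k)) {X' : Scheme.{u}}
    (q : X' ⟶ Spec (CommRingCat.of Ω)) (i : X' ⟶ X) (hsq : IsPullback i q p t) :
    {x : X' | ¬ ∃ U : X'.Opens, x ∈ U ∧ Smooth (U.ι ≫ q)} =
      i ⁻¹' {x : X | ¬ ∃ U : X.Opens, x ∈ U ∧ Smooth (U.ι ≫ p)} := by
  haveI : LocallyOfFiniteType q := MorphismProperty.of_isPullback hsq ‹_›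
  obtain ⟨φ, rfl⟩ := Spec.map_surjective t
  letI : Algebra k Ω := φ.hom.toAlgebra
  ext x
  simp only [Set.mem_setOf_eq, Set.mem_preimage]
  refine not_congr ((nonsmooth_iff q x).trans ((Iff.trans ?_ (Grpd80.smoothLocus_localDim_bc p
    (hsq.isoPullback.hom x)).1).trans ?_))
  · change x ∈ q.smoothLocus ↔ x ∈ hsq.isoPullback.hom ⁻¹ᵁ (pullback.snd p (Spec.map φ)).smoothLocus
    rw [Scheme.Hom.preimage_smoothLocus_eq]
    simp only [IsPullback.isoPullback_hom_snd]
  · show (hsq.isoPullback.hom ≫ pullback.fst p (Spec.map φ)) x ∈ p.smoothLocus ↔ _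
    rw [IsPullback.isoPullback_hom_fst]
    exact (nonsmooth_iff p _).symm

theorem geomFiniteNonsmooth_iff [LocallyOfFiniteType p] :
    (∀ (Ω : Type u) [Field Ω] [IsAlgClosed Ω] (t : Spec (CommRingCat.of Ω) ⟶ Spec (CommRingCat.of k))
      (X' : Scheme.{u}) (q : X' ⟶ Spec (CommRingCat.of Ω)) (i : X' ⟶ X), IsPullback i q p t →
        Set.Finite {x : X' | ¬ ∃ U : X'.Opens, x ∈ U ∧ Smooth (U.ι ≫ q)}) ↔
      Set.Finite {x : X | ¬ ∃ U : X.Opens, x ∈ U ∧ Smooth (U.ι ≫ p)} := by
  let N := {x : X | ¬ ∃ U : X.Opens, x ∈ U ∧ Smooth (U.ι ≫ p)}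
  constructor
  · intro H
    let Ω := AlgebraicClosure k
    let t := Spec.map (CommRingCat.ofHom (algebraMap k Ω))
    haveI : Surjective t := ⟨fun x => ⟨default, Subsingleton.elim _ _⟩⟩
    have h := H Ω _ _ _ _ (IsPullback.of_hasPullback p t)
    rw [preimage_nonsmooth p t _ _ (IsPullback.of_hasPullback p t)] at h
    exact Set.Finite.of_preimage h (pullback.fst p t).surjective
  · intro hN Ω _ _ t X' q i hsq
    rw [preimage_nonsmooth p t q i hsq]
    haveI : JacobsonSpace X := LocallyOfFiniteType.jacobsonSpace p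
    have hNc : IsClosed N := by
      have : N = (p.smoothLocus : Set X)ᶜ := Set.ext fun x => not_congr (nonsmooth_iff p x)
      rw [this]
      exact p.smoothLocus.2.isClosed_compl
    have hclosed : ∀ x ∈ N, IsClosed ({x} : Set X) := by
      have hfin : (N ∩ closedPoints X).Finite := hN.inter_of_left _
      have hc : IsClosed (N ∩ closedPoints X) := by
        rw [← Set.biUnion_of_singleton (N ∩ closedPoints X)]
        exact hfin.isClosed_biUnion fun x hx => hx.2
      have : N = N ∩ closedPoints X := by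
        conv_lhs => rw [← hNc.closure_eq, ← JacobsonSpace.closure_inter_closedPoints_eq_closure hNc.isLocallyClosed]
        exact hc.closure_eq
      intro x hx
      rw [this] at hx
      exact hx.2
    refine hN.preimage' fun x hx => ?_
    haveI : IsClosedImmersion (X.fromSpecResidueField x) := isClosed_singleton_iff_isClosedImmersion.1 (hclosed x hx)
    haveI : IsFinite (X.fromSpecResidueField x ≫ p) := by
      rw [isFinite_iff_locallyOfFiniteType_of_jacobsonSpace]
      infer_instance
    have hP := (IsPullback.of_hasPullback (X.fromSpecResidueField x) i).paste_vert hsq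
    haveI : IsFinite (pullback.snd (X.fromSpecResidueField x) i ≫ q) :=
      MorphismProperty.of_isPullback hP ‹_›
    have hfin := (pullback.snd (X.fromSpecResidueField x) i ≫ q).finite_preimage_singleton default
    have : Finite ↥(pullback (X.fromSpecResidueField x) i) := by
      rw [← Set.finite_univ_iff]
      convert hfin
      ext z
      exact iff_of_true trivial (Subsingleton.elim _ _)
    have hr : Set.range (pullback.snd (X.fromSpecResidueField x) i) = i ⁻¹' {x} := by
      rw [Scheme.Pullback.range_snd, Scheme.range_fromSpecResidueField]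
    rw [← hr]
    exact Set.finite_range _

end Groth.Agent.CurvLoci1
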